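import Groth.Agent.H64.Psh.SmoothLoc
import Groth.Agent.H64.Psh.SmoothLoc2

set_option autoImplicit false
open CategoryTheory CategoryTheory.Limits Opposite AlgebraicGeometry
universe u

/-! Two charts of a category fibred in groupoids, one of them representable by algebraic spaces,
have a common refinement by a scheme; properties of the charts pass to the projections. -/

namespace Groth.Agent.H64.FldPt

open Groth.Agent.H32 Groth.Agent.H64.Recog Groth.Agent.H64.FpRep AlgSt Groth.Agent.H64.PTh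

variable {S : Scheme.{u}}

/-- the properties of morphisms of algebraic spaces which pass to a common refinement -/
structure NiceQ (Q : MorphismProperty (AlgSp.Sp S)) : Prop where
  bc : StableBC Q
  comp : ∀ ⦃X Y Z : AlgSp.Sp S⦄, AlgSp.IsAlgSpace X → AlgSp.IsAlgSpace Y → AlgSp.IsAlgSpace Z →
    ∀ (a : X ⟶ Y) (b : Y ⟶ Z), Q a → Q b → Q (a ≫ b)
  loc : AlgSp.IsLocalOnBase AlgSp.IsFppfCover Q
  iso : Q.RespectsIso
  atlas : ∀ {F : AlgSp.Sp S} (_ : AlgSp.IsAlgSpace F) {W : Over S}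
    (p : (AlgSp.yon S).obj W ⟶ F), AlgSp.RepWith @Etale p → AlgSp.RepWith @Surjective p →
    RepByAlgSpWith Q (ofSection (uliftYonedaEquiv.{u+1} p.hom) : FibCat.overCat W ⥤ᵇ ofSp F)

theorem niceQ_locP {P : MorphismProperty Scheme.{u}} (hG : Groth.Agent.H50.GoodClass P)
    (hloc : AlgSp.IsLocalOnBase (AlgSp.IsFppfCover (S := S)) (AlgSp.LocP P)) :
    NiceQ (S := S) (AlgSp.LocP P) where
  bc := stableBC_locP hG
  comp := fun _ _ _ _ hY _ a b ha hb => hG.locP_comp hY a b ha hb
  loc := hloc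
  iso := locP_respectsIso P
  atlas := fun hF _ p hpE _ => repByAlgSpWith_ofSection _ hF p (baseChange_locP_of_etale p hpE hG)

theorem niceQ_surj : NiceQ (S := S) AlgSp.IsSurjectiveMor where
  bc := stableBC_surj
  comp := fun _ _ _ _ _ _ _ _ ha hb => Groth.Agent.H49.isSurjectiveMor_comp ha hb
  loc := isLocalOnBase_fppf_surj
  iso := isSurjectiveMor_respectsIso
  atlas := fun hF _ p _ hpS => repByAlgSpWith_ofSection _ hF p (baseChange_surj_of_surjective p hpS)

theorem niceQ_smooth : NiceQ (S := S) (AlgSp.LocP @Smooth) :=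
  niceQ_locP Groth.Agent.H50.goodClass_smooth isLocalOnBase_fppf_smooth

theorem niceQ_flat : NiceQ (S := S) (AlgSp.LocP @Flat) :=
  niceQ_locP Groth.Agent.H50.goodClass_flat isLocalOnBase_fppf_flat

theorem niceQ_lfp : NiceQ (S := S) (AlgSp.LocP @LocallyOfFinitePresentation) :=
  niceQ_locP Groth.Agent.H50.goodClass_lfp isLocalOnBase_fppf_lfp

/-- two charts, the first representable by algebraic spaces, have a common refinement by a
scheme, whose projections inherit the properties of the charts -/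
theorem exists_refinement {𝒳 : AlgSt.Cat S} {U U' : Over S}
    (x : FibCat.overCat U ⥤ᵇ 𝒳) (x' : FibCat.overCat U' ⥤ᵇ 𝒳) (hx : RepByAlgSp1 x) :
    ∃ (W : Over S) (g : W ⟶ U) (g' : W ⟶ U'),
      Nonempty (BasedFunctor.comp (AlgSt.overMap g') x' ≅ BasedFunctor.comp (AlgSt.overMap g) x) ∧
      ∀ (Q : MorphismProperty (AlgSp.Sp S)), NiceQ Q →
        (RepByAlgSpWith Q x → Q ((AlgSp.yon S).map g')) ∧
        (RepByAlgSpWith Q x' → Q ((AlgSp.yon S).map g)) := by
  obtain ⟨F, eF, heF⟩ := hx U' x'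
  obtain ⟨W, p, hpE, hpS⟩ := F.property.atlas
  let s : FibCat.overCat W ⥤ᵇ ofSp F.obj := ofSection (uliftYonedaEquiv.{u+1} p.hom)
  have hF : FibCat.IsFibGrpd (ofSp F.obj).p := Stk.isFibGrpd_ofPsh _
  have hW : FibCat.IsFibGrpd (FibCat.overCat W).p := (isFibSetoid_overCat W).1
  obtain ⟨g', ⟨γ'⟩⟩ := exists_iso_ovMap
    (BasedFunctor.comp s (BasedFunctor.comp eF (FibCat.fpFst x' x)))
  obtain ⟨g, ⟨γ⟩⟩ := exists_iso_ovMap
    (BasedFunctor.comp s (BasedFunctor.comp eF (FibCat.fpSnd x' x)))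
  have tr : ∀ (Q : MorphismProperty (AlgSp.Sp S)) {U₁ : Over S}
      (G : FibCat.overCat W ⥤ᵇ FibCat.overCat U₁) (k : W ⟶ U₁) (_ : G ≅ ovMap k),
      RepByAlgSpWith Q G → RepByAlgSpWith Q (AlgSt.overMap k) := by
    intro Q U₁ G k γ hG
    exact repByAlgSpWith_of_square Q G (AlgSt.overMap k) (BasedFunctor.id _) (BasedFunctor.id _)
      (isEquivOver_id _) (isEquivOver_id _) γ.symm hG
  refine ⟨W, g, g', ⟨?_⟩, ?_⟩
  · have e1 : BasedFunctor.comp (AlgSt.overMap g') x' ≅
        BasedFunctor.comp (BasedFunctor.comp s (BasedFunctor.comp eF (FibCat.fpFst x' x))) x' :=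
      (bwrIso γ' x').symm
    have e2 : BasedFunctor.comp (BasedFunctor.comp s (BasedFunctor.comp eF (FibCat.fpSnd x' x))) x ≅
        BasedFunctor.comp (AlgSt.overMap g) x := bwrIso γ x
    have e3 : BasedFunctor.comp (BasedFunctor.comp s (BasedFunctor.comp eF (FibCat.fpFst x' x))) x' ≅
        BasedFunctor.comp (BasedFunctor.comp s (BasedFunctor.comp eF (FibCat.fpSnd x' x))) x :=
      bwlIso (BasedFunctor.comp s eF) (FibCat.fpIso x' x)
    exact e1 ≪≫ e3 ≪≫ e2
  · intro Q hQ
    have := hQ.iso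
    have hs : RepByAlgSpWith Q s := hQ.atlas F.property p hpE hpS
    constructor
    · intro hxQ
      have h1 : RepByAlgSpWith Q (FibCat.fpFst x' x) := repByAlgSpWith_fpFst Q x x' hxQ
      have h2 : RepByAlgSpWith Q (BasedFunctor.comp eF (FibCat.fpFst x' x)) :=
        repByAlgSpWith_of_square Q (FibCat.fpFst x' x) _ eF (BasedFunctor.id _) heF
          (isEquivOver_id _) (Iso.refl _) h1
      have h3 := repByAlgSpWith_comp hW hF hQ.bc hQ.comp hQ.loc s _ hs h2
      exact prop_yon_map_of_overMap _ g' (tr _ _ g' γ' h3)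
    · intro hxQ
      have h1 : RepByAlgSpWith Q (FibCat.fpSnd x' x) := repByAlgSpWith_fpSnd Q x' x hxQ
      have h2 : RepByAlgSpWith Q (BasedFunctor.comp eF (FibCat.fpSnd x' x)) :=
        repByAlgSpWith_of_square Q (FibCat.fpSnd x' x) _ eF (BasedFunctor.id _) heF
          (isEquivOver_id _) (Iso.refl _) h1
      have h3 := repByAlgSpWith_comp hW hF hQ.bc hQ.comp hQ.loc s _ hs h2
      exact prop_yon_map_of_overMap _ g (tr _ _ g γ h3)

end Groth.Agent.H64.FldPt
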