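import Mathlib

set_option autoImplicit false
open CategoryTheory AlgebraicGeometry
universe u

/-! Field-valued points of schemes: a flat one on a reduced scheme (generic point of a component),
a locally finite type one on any scheme (closed point of an affine open). -/

namespace Groth.Agent.H64.FldPt

theorem exists_affineOpen_nonempty (X : Scheme.{u}) [Nonempty X] :
    ∃ U : X.Opens, IsAffineOpen U ∧ Nonempty U := by
  obtain ⟨x⟩ := ‹Nonempty X›
  obtain ⟨U, hU, hxU, -⟩ := (TopologicalSpace.Opens.isBasis_iff_nbhd.1 X.isBasis_affineOpens)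
    (show x ∈ (⊤ : X.Opens) from trivial)
  exact ⟨U, hU, ⟨⟨x, hxU⟩⟩⟩

/-- a non-empty reduced scheme receives a flat morphism from the spectrum of a field -/
theorem exists_flat_field_point (X : Scheme.{u}) [IsReduced X] [Nonempty X] :
    ∃ (K : Type u) (_ : Field K) (f : Spec (CommRingCat.of K) ⟶ X), Flat f := by
  obtain ⟨U, hU, hne⟩ := exists_affineOpen_nonempty X
  have hnt : Nontrivial Γ(X, U) := inferInstance
  obtain ⟨q, hq⟩ := Ideal.nonempty_minimalPrimes (I := (⊥ : Ideal Γ(X, U))) bot_ne_top
  have hq' : q ∈ minimalPrimes Γ(X, U) := hq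
  have := hq.1.1
  have : Ring.KrullDimLE 0 (Localization.AtPrime q) := .of_isLocalization _ hq' _
  let _ : Field (Localization.AtPrime q) := Ring.KrullDimLE.isField_of_isReduced.toField
  refine ⟨Localization.AtPrime q, inferInstance,
    Spec.map (CommRingCat.ofHom (algebraMap Γ(X, U) (Localization.AtPrime q))) ≫ hU.fromSpec, ?_⟩
  have h1 : Flat (Spec.map (CommRingCat.ofHom (algebraMap Γ(X, U) (Localization.AtPrime q)))) := by
    rw [Flat.SpecMap_iff]
    exact RingHom.flat_algebraMap_iff.2 (IsLocalization.flat _ q.primeCompl)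
  infer_instance

/-- a non-empty scheme receives a locally finite type morphism from the spectrum of a field,
locally finitely presented if the scheme is locally Noetherian -/
theorem exists_lft_field_point (X : Scheme.{u}) [Nonempty X] :
    ∃ (K : Type u) (_ : Field K) (f : Spec (CommRingCat.of K) ⟶ X), LocallyOfFiniteType f ∧
      (IsLocallyNoetherian X → LocallyOfFinitePresentation f) := by
  obtain ⟨U, hU, hne⟩ := exists_affineOpen_nonempty X
  have hnt : Nontrivial Γ(X, U) := inferInstance
  obtain ⟨m, hm⟩ := Ideal.exists_maximal Γ(X, U)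
  let _ : Field (Γ(X, U) ⧸ m) := Ideal.Quotient.field m
  refine ⟨Γ(X, U) ⧸ m, inferInstance,
    Spec.map (CommRingCat.ofHom (Ideal.Quotient.mk m)) ≫ hU.fromSpec, ?_, ?_⟩
  · have h1 : LocallyOfFiniteType (Spec.map (CommRingCat.ofHom (Ideal.Quotient.mk m))) := by
      rw [HasRingHomProperty.Spec_iff (P := @LocallyOfFiniteType)]
      exact RingHom.FiniteType.of_surjective _ Ideal.Quotient.mk_surjective
    infer_instance
  · intro hN
    have hNR : IsNoetherianRing Γ(X, U) := IsLocallyNoetherian.component_noetherian ⟨U, hU⟩
    have h1 : LocallyOfFinitePresentation (Spec.map (CommRingCat.ofHom (Ideal.Quotient.mk m))) := by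
      rw [HasRingHomProperty.Spec_iff (P := @LocallyOfFinitePresentation)]
      exact RingHom.FinitePresentation.of_surjective _ Ideal.Quotient.mk_surjective
        (IsNoetherian.noetherian _)
    infer_instance

/-- a scheme smooth over a field is reduced and locally Noetherian -/
theorem isLocallyNoetherian_of_smooth_field {k : Type u} [Field k] {X : Scheme.{u}}
    (g : X ⟶ Spec (CommRingCat.of k)) [Smooth g] : IsLocallyNoetherian X :=
  LocallyOfFiniteType.isLocallyNoetherian g

end Groth.Agent.H64.FldPt
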