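import Groth.Agent.H64.FldPt.FlatPt
import Groth.Agent.H64.FldPt.Refine
import Groth.Agent.H64.FldPt.SchemePts
import Groth.Agent.H64.Psh.DiagLft
import Groth.Agent.H64.Pts.Atlas
import Groth.Agent.H53.ReducedSm
import Groth.Agent.H53.NoethFppf
import Groth.Agent.H23.Geometrically
import Groth.Agent.S10526

set_option autoImplicit false
open CategoryTheory CategoryTheory.Limits Opposite AlgebraicGeometry
universe u

/-! Reduced one-point algebraic stacks and flat surjective field-valued points. -/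

namespace Groth.Agent.H64.FldPt

open Groth.Agent.H32 Groth.Agent.H64.Recog Groth.Agent.H64.FpRep AlgSt Groth.Agent.H64.PTh
  Groth.Agent.H64.Aff Groth.Agent.H64.Pts

variable {S : Scheme.{u}} {𝒵 : AlgSt.Cat S}

theorem smooth_le_flat : (@Smooth : MorphismProperty Scheme.{u}) ≤ @Flat := fun _ _ f hf => by
  have : Smooth f := hf
  infer_instance

theorem smooth_le_lfp : (@Smooth : MorphismProperty Scheme.{u}) ≤ @LocallyOfFinitePresentation :=
  fun _ _ f hf => by
    have : Smooth f := hf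
    infer_instance

theorem lfp_le_lft : (@LocallyOfFinitePresentation : MorphismProperty Scheme.{u}) ≤
    @LocallyOfFiniteType := fun _ _ f hf => by
  have : LocallyOfFinitePresentation f := hf
  infer_instance

theorem isLocalOnBase_fppf_lft' :
    AlgSp.IsLocalOnBase (AlgSp.IsFppfCover (S := S)) (AlgSp.LocP @LocallyOfFiniteType) :=
  isLocalOnBase_fppf_of_fpqc (Groth.Agent.S10526.result S)

theorem repByAlgSpWith_lft_comp {𝒳 𝒴 𝒵 : AlgSt.Cat S} (h𝒳 : FibCat.IsFibGrpd 𝒳.p)
    (h𝒴 : FibCat.IsFibGrpd 𝒴.p) (f : 𝒳 ⥤ᵇ 𝒴) (g : 𝒴 ⥤ᵇ 𝒵)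
    (hf : RepByAlgSpWith (AlgSp.LocP @LocallyOfFiniteType) f)
    (hg : RepByAlgSpWith (AlgSp.LocP @LocallyOfFiniteType) g) :
    RepByAlgSpWith (AlgSp.LocP @LocallyOfFiniteType) (BasedFunctor.comp f g) :=
  repByAlgSpWith_comp h𝒳 h𝒴 (stableBC_locP Groth.Agent.H50.goodClass_lft)
    (fun _ _ _ _ hY _ a b ha hb => Groth.Agent.H50.goodClass_lft.locP_comp hY a b ha hb)
    isLocalOnBase_fppf_lft' f g hf hg

/-- the chart of a category over `(Sch/S)` obtained by composing a chart with a morphism from the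
spectrum of a field -/
noncomputable abbrev fieldChart {U : Over S} (x : FibCat.overCat U ⥤ᵇ 𝒵) {K : Type u} [Field K]
    (f : Spec (CommRingCat.of K) ⟶ U.left) :
    FibCat.overCat (Over.mk (f ≫ U.hom)) ⥤ᵇ 𝒵 :=
  BasedFunctor.comp (AlgSt.overMap (Over.homMk f rfl : Over.mk (f ≫ U.hom) ⟶ U)) x

theorem repByAlgSpWith_fieldChart {P : MorphismProperty Scheme.{u}}
    (hG : Groth.Agent.H50.GoodClass P)
    (hloc : AlgSp.IsLocalOnBase (AlgSp.IsFppfCover (S := S)) (AlgSp.LocP P))
    {U : Over S} (x : FibCat.overCat U ⥤ᵇ 𝒵)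
    (hx : RepByAlgSpWith (AlgSp.LocP P) x) {K : Type u} [Field K]
    (f : Spec (CommRingCat.of K) ⟶ U.left) (hf : P f) :
    RepByAlgSpWith (AlgSp.LocP P) (fieldChart x f) := by
  have hT : FibCat.IsFibGrpd (FibCat.overCat (Over.mk (f ≫ U.hom))).p :=
    (isFibSetoid_overCat _).1
  have hU : FibCat.IsFibGrpd (FibCat.overCat U).p := (isFibSetoid_overCat U).1
  exact repByAlgSpWith_comp hT hU (stableBC_locP hG)
    (fun _ _ _ _ hY _ a b ha hb => hG.locP_comp hY a b ha hb) hloc _ x
    (repByAlgSpWith_overMap _ (stableBC_locP hG) _ (hG.locP_yon_map _ hf)) hx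

/-- the source of a surjective chart of a category with a point is non-empty -/
theorem nonempty_of_surjective_chart (h𝒵 : FibCat.IsFibGrpd 𝒵.p) (hne : Nonempty (Points 𝒵))
    {U : Over S} (x : FibCat.overCat U ⥤ᵇ 𝒵) (hxs : RepByAlgSpWith AlgSp.IsSurjectiveMor x) :
    Nonempty ↥U.left := by
  obtain ⟨ξ⟩ := hne
  obtain ⟨t, -⟩ := surjective_ofChart h𝒵 x hxs ξ
  exact ⟨t⟩

/-- (1) ⇒ (2): a reduced one-point algebraic stack receives a surjective flat morphism from the
spectrum of a field -/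
theorem exists_flat_surj_field_of_reduced (h𝒵 : IsAlgStack Scheme.fppfPrecoverage 𝒵)
    (hred : SmoothLocally (fun T => IsReduced T) 𝒵) (hne : Nonempty (Points 𝒵))
    (hsub : Subsingleton (Points 𝒵)) :
    ∃ (k : Type u) (_ : Field k) (a : Spec (CommRingCat.of k) ⟶ S)
      (z : FibCat.overCat (Over.mk a) ⥤ᵇ 𝒵), RepByAlgSpWith AlgSp.IsSurjectiveMor z ∧
        RepByAlgSpWith (AlgSp.LocP @Flat) z := by
  have hfib : FibCat.IsFibGrpd 𝒵.p := h𝒵.isStack.1
  obtain ⟨U, x, hx, hxs⟩ := h𝒵.atlas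
  have : IsReduced U.left := hred U x hx
  have : Nonempty ↥U.left := nonempty_of_surjective_chart hfib hne x hxs
  obtain ⟨K, _, f, hf⟩ := exists_flat_field_point U.left
  refine ⟨K, inferInstance, f ≫ U.hom, fieldChart x f,
    repByAlgSpWith_surj_of_subsingleton h𝒵 hsub _ _, ?_⟩
  exact repByAlgSpWith_fieldChart Groth.Agent.H50.goodClass_flat isLocalOnBase_fppf_flat x
    (repByAlgSpWith_locP_mono smooth_le_flat x hx) f hf

/-- (2) ⇒ (3), and its locally Noetherian variant: a one-point algebraic stack with a flat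
surjective field-valued point has a locally finite type one (locally finitely presented if the
stack is locally Noetherian) -/
theorem exists_lft_flat_surj_field (h𝒵 : IsAlgStack Scheme.fppfPrecoverage 𝒵)
    {k : Type u} [Field k] (a : Spec (CommRingCat.of k) ⟶ S)
    (z : FibCat.overCat (Over.mk a) ⥤ᵇ 𝒵)
    (hzs : RepByAlgSpWith AlgSp.IsSurjectiveMor z) (hzf : RepByAlgSpWith (AlgSp.LocP @Flat) z) :
    ∃ (k' : Type u) (_ : Field k') (a' : Spec (CommRingCat.of k') ⟶ S)
      (z' : FibCat.overCat (Over.mk a') ⥤ᵇ 𝒵),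
        RepByAlgSpWith (AlgSp.LocP @LocallyOfFiniteType) z' ∧
        RepByAlgSpWith AlgSp.IsSurjectiveMor z' ∧ RepByAlgSpWith (AlgSp.LocP @Flat) z' ∧
        (SmoothLocally (fun T => IsLocallyNoetherian T) 𝒵 →
          RepByAlgSpWith (AlgSp.LocP @LocallyOfFinitePresentation) z') := by
  have hfib : FibCat.IsFibGrpd 𝒵.p := h𝒵.isStack.1
  obtain ⟨U, x, hx, hxs⟩ := h𝒵.atlas
  have : Nonempty ↥U.left :=
    nonempty_of_surjective_chart hfib (nonempty_points_of_field 𝒵 a z) x hxs
  obtain ⟨K, _, f, hf, hf'⟩ := exists_lft_field_point U.left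
  obtain ⟨h1, h2⟩ := surjective_flat_of_surjective_flat h𝒵 a z hzs hzf (f ≫ U.hom)
    (fieldChart x f)
  refine ⟨K, inferInstance, f ≫ U.hom, fieldChart x f, ?_, h1, h2, ?_⟩
  · exact repByAlgSpWith_fieldChart Groth.Agent.H50.goodClass_lft isLocalOnBase_fppf_lft' x
      (repByAlgSpWith_locP_mono (smooth_le_lfp.trans lfp_le_lft) x hx) f hf
  · intro hN
    exact repByAlgSpWith_fieldChart Groth.Agent.H50.goodClass_lfp isLocalOnBase_fppf_lfp x
      (repByAlgSpWith_locP_mono smooth_le_lfp x hx) f (hf' (hN U x hx))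

/-- (2) ⇒ (1): an algebraic stack with a flat surjective field-valued point is reduced -/
theorem smoothLocally_isReduced_of_flat_surj_field
    {k : Type u} [Field k] (a : Spec (CommRingCat.of k) ⟶ S)
    (z : FibCat.overCat (Over.mk a) ⥤ᵇ 𝒵)
    (hzs : RepByAlgSpWith AlgSp.IsSurjectiveMor z) (hzf : RepByAlgSpWith (AlgSp.LocP @Flat) z) :
    SmoothLocally (fun T => IsReduced T) 𝒵 := by
  intro U x hx
  obtain ⟨W, g, g', -, hQ⟩ := exists_refinement z x (RepByAlgSpWith.repByAlgSp1 hzs)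
  have h1 : Flat g'.left := AlgSp.locP_yon_map ((hQ _ niceQ_flat).1 hzf)
  have h2 : Surjective g'.left :=
    surjective_of_isSurjectiveMor_yon_map g' ((hQ _ niceQ_surj).1 hzs)
  have h3 : Smooth g.left := AlgSp.locP_yon_map ((hQ _ niceQ_smooth).2 hx)
  have h4 : IsReduced W.left := by
    have : IsReduced (Over.mk a).left := by
      change IsReduced (Spec (CommRingCat.of k))
      infer_instance
    exact Groth.Agent.H53.isReduced_of_smooth_scheme g.left
  exact Groth.Agent.H23.isReduced_of_flat_of_surjective g'.left h1 h2 h4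

/-- an algebraic stack with a flat, surjective, locally finitely presented field-valued point is
locally Noetherian -/
theorem smoothLocally_isLocallyNoetherian_of_fppf_field
    {k : Type u} [Field k] (a : Spec (CommRingCat.of k) ⟶ S)
    (z : FibCat.overCat (Over.mk a) ⥤ᵇ 𝒵)
    (hzp : RepByAlgSpWith (AlgSp.LocP @LocallyOfFinitePresentation) z)
    (hzs : RepByAlgSpWith AlgSp.IsSurjectiveMor z) (hzf : RepByAlgSpWith (AlgSp.LocP @Flat) z) :
    SmoothLocally (fun T => IsLocallyNoetherian T) 𝒵 := by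
  intro U x hx
  obtain ⟨W, g, g', -, hQ⟩ := exists_refinement z x (RepByAlgSpWith.repByAlgSp1 hzs)
  have h1 : Flat g'.left := AlgSp.locP_yon_map ((hQ _ niceQ_flat).1 hzf)
  have h2 : Surjective g'.left :=
    surjective_of_isSurjectiveMor_yon_map g' ((hQ _ niceQ_surj).1 hzs)
  have h2' : LocallyOfFinitePresentation g'.left := AlgSp.locP_yon_map ((hQ _ niceQ_lfp).1 hzp)
  have h3 : Smooth g.left := AlgSp.locP_yon_map ((hQ _ niceQ_smooth).2 hx)
  have h4 : IsLocallyNoetherian W.left := by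
    have h5 : Smooth (Y := Spec (CommRingCat.of k)) g.left := h3
    exact isLocallyNoetherian_of_smooth_field (k := k) g.left
  exact Groth.Agent.H53.isLocallyNoetherian_of_fppf_surjective g'.left

end Groth.Agent.H64.FldPt
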