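import Groth.Agent.H64.FPtFp
import Groth.Agent.H64.Pts.Basic
import Groth.Agent.H64.OverMapRep
import Groth.Agent.H64.Psh.PbRecog

set_option autoImplicit false
open CategoryTheory CategoryTheory.Limits Opposite AlgebraicGeometry
universe u

/-! Two scheme-charts of a category fibred in groupoids whose points agree somewhere are
2-isomorphic after pulling back to the spectrum of a common field. -/

namespace Groth.Agent.H64.FldPt

open Groth.Agent.H32 AlgSt Groth.Agent.H64.Pts Groth.Agent.H64.Recog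

variable {S : Scheme.{u}}

/-- an object of the slice whose source is `T` is isomorphic to the image of the terminal object
under composition with its structure map -/
theorem exists_overMap_of_left_eq {U T : Over S} (t : Over U) (ht : t.left = T) :
    ∃ (f : T ⟶ U) (ι : (Over.map f).obj (ovT T) ≅ t), ι.hom.left = eqToHom ht.symm := by
  subst ht
  exact ⟨t.hom, Over.isoMk (Iso.refl _) (by simp), rfl⟩

theorem exists_common_field {𝒵 : AlgSt.Cat S} (h𝒵 : FibCat.IsFibGrpd 𝒵.p) {U U' : Over S}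
    (z : FibCat.overCat U ⥤ᵇ 𝒵) (z' : FibCat.overCat U' ⥤ᵇ 𝒵)
    (p : FPt (FibCat.overCat U)) (p' : FPt (FibCat.overCat U'))
    (h : Points.mk (p.map z) = Points.mk (p'.map z')) :
    ∃ (K : Type u) (_ : Field K) (str : Spec (CommRingCat.of K) ⟶ S)
      (f₁ : Over.mk str ⟶ U) (f₂ : Over.mk str ⟶ U'),
      Nonempty (BasedFunctor.comp (AlgSt.overMap f₁) z ≅
        BasedFunctor.comp (AlgSt.overMap f₂) z') := by
  obtain ⟨r, c, c', -⟩ := rel_of_mk_eq h𝒵 h
  obtain ⟨t, ψ, ht, e, he⟩ := exists_pullback_fpt (isFibSetoid_overCat U).1 h𝒵 z p r c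
  obtain ⟨t', ψ', ht', e', he'⟩ := exists_pullback_fpt (isFibSetoid_overCat U').1 h𝒵 z' p' r c'
  obtain ⟨f₁, ι, hι⟩ := exists_overMap_of_left_eq (T := Over.mk r.str) t ht
  obtain ⟨f₂, ι', hι'⟩ := exists_overMap_of_left_eq (T := Over.mk r.str) t' ht'
  refine ⟨r.K, r.field, r.str, f₁, f₂, ?_⟩
  have h1 : 𝒵.p.IsHomLift (𝟙 (Over.mk r.str)) (z.map ι.hom) := by
    have h0 : (FibCat.overCat U).p.IsHomLift (𝟙 (Over.mk r.str)) ι.hom := by
      apply IsHomLift.of_fac' (FibCat.overCat U).p _ _ rfl ht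
      change ι.hom.left = eqToHom rfl ≫ 𝟙 _ ≫ eqToHom ht.symm
      rw [hι, eqToHom_refl, Category.id_comp, Category.id_comp]
      rfl
    exact (BasedFunctor.isHomLift_iff z _ _).mpr h0
  have h1' : 𝒵.p.IsHomLift (𝟙 (Over.mk r.str)) (z'.map ι'.hom) := by
    have h0 : (FibCat.overCat U').p.IsHomLift (𝟙 (Over.mk r.str)) ι'.hom := by
      apply IsHomLift.of_fac' (FibCat.overCat U').p _ _ rfl ht'
      change ι'.hom.left = eqToHom rfl ≫ 𝟙 _ ≫ eqToHom ht'.symm
      rw [hι', eqToHom_refl, Category.id_comp, Category.id_comp]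
      rfl
    exact (BasedFunctor.isHomLift_iff z' _ _).mpr h0
  have h2 : 𝒵.p.IsHomLift (𝟙 (Over.mk r.str)) (z'.map ι'.inv) :=
    lift_inv_of_iso 𝒵.p (z'.toFunctor.mapIso ι') h1'
  have h3 : 𝒵.p.IsHomLift (𝟙 (Over.mk r.str)) e'.inv := lift_inv_of_iso 𝒵.p e' he'
  let Ψ : z.obj ((Over.map f₁).obj (ovT (Over.mk r.str))) ≅
      z'.obj ((Over.map f₂).obj (ovT (Over.mk r.str))) :=
    z.toFunctor.mapIso ι ≪≫ e ≪≫ e'.symm ≪≫ (z'.toFunctor.mapIso ι').symm
  have hΨ : 𝒵.p.IsHomLift (𝟙 (Over.mk r.str)) Ψ.hom :=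
    lift_id_comp_id 𝒵.p h1 (lift_id_comp_id 𝒵.p he (lift_id_comp_id 𝒵.p h3 h2))
  exact exists_iso_of_app_T h𝒵 (G := BasedFunctor.comp (AlgSt.overMap f₁) z)
    (H := BasedFunctor.comp (AlgSt.overMap f₂) z') Ψ hΨ

end Groth.Agent.H64.FldPt
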