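import Groth.Agent.H64.FldPt.FpqcSrc
import Groth.Agent.H64.FldPt.Common
import Groth.Agent.H64.Pts.Surj
import Groth.Agent.H64.Pts.Space
import Groth.Agent.H64.Psh.QCompact
import Groth.Agent.H64.Psh.DiagAlg
import Groth.Agent.H64.Psh.Cancel

set_option autoImplicit false
open CategoryTheory CategoryTheory.Limits Opposite AlgebraicGeometry
universe u

/-! If one field-valued point of an algebraic stack is surjective and flat, all are. -/

namespace Groth.Agent.H64.FldPt

open Groth.Agent.H32 Groth.Agent.H64.Recog Groth.Agent.H64.FpRep AlgSt Groth.Agent.H64.PTh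
  Groth.Agent.H64.Aff Groth.Agent.H64.Pts

variable {S : Scheme.{u}} {𝒵 : AlgSt.Cat S}

/-- a category receiving a surjective morphism from the spectrum of a field has at most one
point -/
theorem subsingleton_points_of_surjective_field (h𝒵 : FibCat.IsFibGrpd 𝒵.p)
    {k : Type u} [Field k] (a : Spec (CommRingCat.of k) ⟶ S)
    (z : FibCat.overCat (Over.mk a) ⥤ᵇ 𝒵)
    (hzs : RepByAlgSpWith AlgSp.IsSurjectiveMor z) : Subsingleton (Points 𝒵) := by
  have hk : FibCat.IsFibGrpd (FibCat.overCat (Over.mk a)).p := (isFibSetoid_overCat (Over.mk a)).1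
  have hs : IsSurjective z :=
    (isSurjective_iff_repByAlgSpWith hk h𝒵 z (RepByAlgSpWith.repByAlgSp1 hzs)).2 hzs
  refine ⟨fun ξ ξ' => ?_⟩
  obtain ⟨w, rfl⟩ := hs ξ
  obtain ⟨w', rfl⟩ := hs ξ'
  obtain ⟨t, rfl⟩ := (ptU_bijective (Over.mk a)).2 w
  obtain ⟨t', rfl⟩ := (ptU_bijective (Over.mk a)).2 w'
  have : t = t' := Subsingleton.elim (α := ↥(Spec (CommRingCat.of k))) t t'
  rw [this]

theorem nonempty_points_of_field (𝒵 : AlgSt.Cat S)
    {k : Type u} [Field k] (a : Spec (CommRingCat.of k) ⟶ S)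
    (z : FibCat.overCat (Over.mk a) ⥤ᵇ 𝒵) : Nonempty (Points 𝒵) := by
  have : Nonempty ↥(Spec (CommRingCat.of k)) := inferInstance
  obtain ⟨t⟩ := this
  exact ⟨Points.map z (ptU (Over.mk a) t)⟩

/-- every morphism from the spectrum of a field to a one-point algebraic stack is surjective -/
theorem repByAlgSpWith_surj_of_subsingleton (h𝒵 : IsAlgStack Scheme.fppfPrecoverage 𝒵)
    (hsub : Subsingleton (Points 𝒵))
    {k' : Type u} [Field k'] (a' : Spec (CommRingCat.of k') ⟶ S)
    (z' : FibCat.overCat (Over.mk a') ⥤ᵇ 𝒵) :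
    RepByAlgSpWith AlgSp.IsSurjectiveMor z' := by
  have hfib : FibCat.IsFibGrpd 𝒵.p := h𝒵.isStack.1
  have hk' : FibCat.IsFibGrpd (FibCat.overCat (Over.mk a')).p :=
    (isFibSetoid_overCat (Over.mk a')).1
  have hz'1 : RepByAlgSp1 z' := repByAlgSp1_of_diag h𝒵.diag _ z'
  rw [← isSurjective_iff_repByAlgSpWith hk' hfib z' hz'1]
  intro ξ
  have : Nonempty ↥(Spec (CommRingCat.of k')) := inferInstance
  obtain ⟨t⟩ := this
  exact ⟨ptU (Over.mk a') t, Subsingleton.elim _ _⟩

/-- two morphisms from spectra of fields to a one-point category fibred in groupoids become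
2-isomorphic over a common field -/
theorem exists_common_field_of_subsingleton (h𝒵 : FibCat.IsFibGrpd 𝒵.p)
    (hsub : Subsingleton (Points 𝒵))
    {k : Type u} [Field k] (a : Spec (CommRingCat.of k) ⟶ S)
    (z : FibCat.overCat (Over.mk a) ⥤ᵇ 𝒵)
    {k' : Type u} [Field k'] (a' : Spec (CommRingCat.of k') ⟶ S)
    (z' : FibCat.overCat (Over.mk a') ⥤ᵇ 𝒵) :
    ∃ (K : Type u) (_ : Field K) (str : Spec (CommRingCat.of K) ⟶ S)
      (f₁ : Over.mk str ⟶ Over.mk a) (f₂ : Over.mk str ⟶ Over.mk a'),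
      Nonempty (BasedFunctor.comp (AlgSt.overMap f₁) z ≅
        BasedFunctor.comp (AlgSt.overMap f₂) z') := by
  have h1 : Nonempty ↥(Spec (CommRingCat.of k)) := inferInstance
  have h2 : Nonempty ↥(Spec (CommRingCat.of k')) := inferInstance
  obtain ⟨t⟩ := h1
  obtain ⟨t'⟩ := h2
  obtain ⟨p, hp⟩ := Points.mk_surjective (ptU (Over.mk a) t)
  obtain ⟨p', hp'⟩ := Points.mk_surjective (ptU (Over.mk a') t')
  exact exists_common_field h𝒵 z z' p p' (Subsingleton.elim _ _)

/-- If an algebraic stack admits a surjective flat morphism from the spectrum of a field, every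
morphism from the spectrum of a field to it is surjective and flat. -/
theorem surjective_flat_of_surjective_flat (h𝒵 : IsAlgStack Scheme.fppfPrecoverage 𝒵)
    {k : Type u} [Field k] (a : Spec (CommRingCat.of k) ⟶ S)
    (z : FibCat.overCat (Over.mk a) ⥤ᵇ 𝒵)
    (hzs : RepByAlgSpWith AlgSp.IsSurjectiveMor z) (hzf : RepByAlgSpWith (AlgSp.LocP @Flat) z)
    {k' : Type u} [Field k'] (a' : Spec (CommRingCat.of k') ⟶ S)
    (z' : FibCat.overCat (Over.mk a') ⥤ᵇ 𝒵) :
    RepByAlgSpWith AlgSp.IsSurjectiveMor z' ∧ RepByAlgSpWith (AlgSp.LocP @Flat) z' := by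
  have hfib : FibCat.IsFibGrpd 𝒵.p := h𝒵.isStack.1
  have hk : FibCat.IsFibGrpd (FibCat.overCat (Over.mk a)).p := (isFibSetoid_overCat (Over.mk a)).1
  have hk' : FibCat.IsFibGrpd (FibCat.overCat (Over.mk a')).p :=
    (isFibSetoid_overCat (Over.mk a')).1
  have hsub : Subsingleton (Points 𝒵) := subsingleton_points_of_surjective_field hfib a z hzs
  refine ⟨repByAlgSpWith_surj_of_subsingleton h𝒵 hsub a' z', ?_⟩
  have hz'1 : RepByAlgSp1 z' := repByAlgSp1_of_diag h𝒵.diag _ z'
  obtain ⟨K, _, str, f₁, f₂, ⟨α⟩⟩ := exists_common_field_of_subsingleton hfib hsub a z a' z'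
  have hT : FibCat.IsFibGrpd (FibCat.overCat (Over.mk str)).p :=
    (isFibSetoid_overCat (Over.mk str)).1
  have hf₁ : Flat f₁.left := by
    change Flat (Y := Spec (CommRingCat.of k)) f₁.left
    infer_instance
  have hf₂ : Flat f₂.left := by
    change Flat (Y := Spec (CommRingCat.of k')) f₂.left
    infer_instance
  have hf₂a : IsAffineHom f₂.left := by
    change IsAffineHom (X := Spec (CommRingCat.of K)) (Y := Spec (CommRingCat.of k')) f₂.left
    infer_instance
  have hf₂s : Surjective f₂.left := by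
    refine ⟨fun y => ?_⟩
    have : Nonempty ↥(Spec (CommRingCat.of K)) := inferInstance
    obtain ⟨x⟩ := this
    exact ⟨x, Subsingleton.elim (α := ↥(Spec (CommRingCat.of k'))) _ _⟩
  have hx1 : RepByAlgSpWith (AlgSp.LocP @Flat) (AlgSt.overMap f₁) :=
    repByAlgSpWith_overMap _ (stableBC_locP Groth.Agent.H50.goodClass_flat) f₁
      (Groth.Agent.H50.goodClass_flat.locP_yon_map f₁ hf₁)
  have hcomp : RepByAlgSpWith (AlgSp.LocP @Flat) (BasedFunctor.comp (AlgSt.overMap f₁) z) :=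
    repByAlgSpWith_flat_comp hT hk _ _ hx1 hzf
  have hcomp' : RepByAlgSpWith (AlgSp.LocP @Flat) (BasedFunctor.comp (AlgSt.overMap f₂) z') :=
    repByAlgSpWith_of_iso α.symm hcomp
  have hx2 : RepByAlgSpWith (AlgSp.LocP @Flat) (AlgSt.overMap f₂) :=
    repByAlgSpWith_overMap _ (stableBC_locP Groth.Agent.H50.goodClass_flat) f₂
      (Groth.Agent.H50.goodClass_flat.locP_yon_map f₂ hf₂)
  have hx3 : RepByAlgSpWith AlgSp.IsAffineMor (AlgSt.overMap f₂) :=
    repByAlgSpWith_overMap _ stableBC_isAffineMor f₂ ((isAffineMor_yon_map_iff f₂).2 hf₂a)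
  have hx4 : RepByAlgSpWith AlgSp.IsSurjectiveMor (AlgSt.overMap f₂) :=
    repByAlgSpWith_overMap _ stableBC_surj f₂ (isSurjectiveMor_yon_map f₂)
  exact repByAlgSpWith_flat_of_comp_affine_flat_surjective hT hk' _ z' hz'1 hx3 hx2 hx4 hcomp'

end Groth.Agent.H64.FldPt
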