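import Groth.Agent.H64.Psh.PSource2
import Groth.Agent.H64.Psh.SmoothLoc
import Groth.Agent.H64.Aff.SchemeLemmas
import Groth.Agent.S10548

set_option autoImplicit false
open CategoryTheory CategoryTheory.Limits Opposite AlgebraicGeometry
universe u

/-! Flatness descends on the source along affine, flat, surjective morphisms representable by
algebraic spaces (an fpqc covering). -/

namespace Groth.Agent.H64.FldPt

open Groth.Agent.H32 Groth.Agent.H64.Recog Groth.Agent.H64.FpRep AlgSt Groth.Agent.H64.PTh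
  Groth.Agent.H64.Aff

variable {S : Scheme.{u}}

/-- an affine, flat, surjective morphism of algebraic spaces is an fpqc covering -/
theorem isFpqcCover_single_of_isAffineMor {V G₀ : AlgSp.Sp S} (hV : AlgSp.IsAlgSpace V)
    (hG : AlgSp.IsAlgSpace G₀) (a : V ⟶ G₀) (haff : AlgSp.IsAffineMor a)
    (hfl : AlgSp.LocP @Flat a) (hs : AlgSp.IsSurjectiveMor a) :
    AlgSp.IsFpqcCover (fun _ : PUnit.{u+1} => V) (fun _ => a) := by
  refine ⟨fun _ => hfl, ?_⟩
  intro Z hZ h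
  obtain ⟨W, i, fst, sq, hW⟩ := haff hZ h
  have hfl' : AlgSp.LocP @Flat ((AlgSp.yon S).map i) :=
    (stableBC_locP Groth.Agent.H50.goodClass_flat) hV hG (AlgSp.IsAlgSpace.yon_obj W)
      (AlgSp.IsAlgSpace.yon_obj Z) a h _ fst sq hfl
  have hs' : AlgSp.IsSurjectiveMor ((AlgSp.yon S).map i) :=
    stableBC_surj hV hG (AlgSp.IsAlgSpace.yon_obj W) (AlgSp.IsAlgSpace.yon_obj Z) a h _ fst sq hs
  have hsurj : Surjective i.left := surjective_of_isSurjectiveMor_yon_map i hs'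
  refine ⟨1, fun _ => W, fun _ => i, fun _ => hW, fun _ => AlgSp.locP_yon_map hfl',
    fun z => ⟨0, hsurj.surj z⟩, fun _ => ⟨PUnit.unit, fst, sq.w⟩⟩

/-- flatness descends along an affine, flat, surjective morphism of the source -/
theorem repByAlgSpWith_flat_of_comp_affine_flat_surjective {𝒳 𝒴 𝒵 : AlgSt.Cat S}
    (h𝒳 : FibCat.IsFibGrpd 𝒳.p) (h𝒴 : FibCat.IsFibGrpd 𝒴.p)
    (x : 𝒳 ⥤ᵇ 𝒴) (y : 𝒴 ⥤ᵇ 𝒵) (hy : RepByAlgSp1 y)
    (hx₁ : RepByAlgSpWith AlgSp.IsAffineMor x) (hx₂ : RepByAlgSpWith (AlgSp.LocP @Flat) x)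
    (hx₃ : RepByAlgSpWith AlgSp.IsSurjectiveMor x)
    (h : RepByAlgSpWith (AlgSp.LocP @Flat) (BasedFunctor.comp x y)) :
    RepByAlgSpWith (AlgSp.LocP @Flat) y :=
  repByAlgSpWith_of_comp_cover (stableBC_locP Groth.Agent.H50.goodClass_flat) AlgSp.IsFpqcCover
    (Groth.Agent.S10548.result S) x y hy (fun G₀ w => by
    obtain ⟨V, a, e, he, ⟨α⟩, hs⟩ := hasP_of_repByAlgSpWith h𝒳 h𝒴
      stableBC_isAffineMor isLocalOnBase_fppf_isAffineMor x hx₁ G₀ w
    have hfl := prop_of_presentation h𝒳 h𝒴 (stableBC_locP Groth.Agent.H50.goodClass_flat)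
      isLocalOnBase_fppf_flat x hx₂ G₀ w V a e he α
    have hsurj := prop_of_presentation h𝒳 h𝒴 stableBC_surj isLocalOnBase_fppf_surj x hx₃ G₀ w
      V a e he α
    exact ⟨V, a, e, he, ⟨α⟩,
      isFpqcCover_single_of_isAffineMor V.property G₀.property a.hom hs hfl hsurj⟩) h

end Groth.Agent.H64.FldPt
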