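import Groth.Agent.H64.FldPt.Tfae
import Groth.Agent.H53.SmoothFieldRegular
import Groth.Agent.H53.RegularFppf

set_option autoImplicit false
open CategoryTheory CategoryTheory.Limits Opposite AlgebraicGeometry
universe u

/-! A reduced, locally Noetherian one-point algebraic stack is regular. -/

namespace Groth.Agent.H64.FldPt

open Groth.Agent.H32 Groth.Agent.H64.Recog Groth.Agent.H64.FpRep AlgSt Groth.Agent.H64.PTh
  Groth.Agent.H64.Pts

variable {S : Scheme.{u}} {𝒵 : AlgSt.Cat S}

theorem smoothLocally_regular_of_flat_surj_field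
    {k : Type u} [Field k] (a : Spec (CommRingCat.of k) ⟶ S)
    (z : FibCat.overCat (Over.mk a) ⥤ᵇ 𝒵)
    (hzs : RepByAlgSpWith AlgSp.IsSurjectiveMor z) (hzf : RepByAlgSpWith (AlgSp.LocP @Flat) z)
    (hnoeth : SmoothLocally (fun T => IsLocallyNoetherian T) 𝒵) :
    SmoothLocally (fun T => ∀ t : T, IsRegularLocalRing (T.presheaf.stalk t)) 𝒵 := by
  intro U x hx u
  obtain ⟨W, g, g', -, hQ⟩ := exists_refinement z x (RepByAlgSpWith.repByAlgSp1 hzs)
  have h1 : Flat g'.left := AlgSp.locP_yon_map ((hQ _ niceQ_flat).1 hzf)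
  have h2 : Surjective g'.left :=
    surjective_of_isSurjectiveMor_yon_map g' ((hQ _ niceQ_surj).1 hzs)
  have h3 : Smooth (Y := Spec (CommRingCat.of k)) g.left :=
    AlgSp.locP_yon_map ((hQ _ niceQ_smooth).2 hx)
  have : IsLocallyNoetherian U.left := hnoeth U x hx
  obtain ⟨w, rfl⟩ := h2.surj u
  exact Groth.Agent.H53.isRegularLocalRing_stalk_of_flat g'.left w
    (Groth.Agent.H53.isRegularLocalRing_stalk_of_smooth_field k g.left w)

theorem smoothLocally_regular (h𝒵 : IsAlgStack Scheme.fppfPrecoverage 𝒵)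
    (hred : SmoothLocally (fun T => IsReduced T) 𝒵)
    (hnoeth : SmoothLocally (fun T => IsLocallyNoetherian T) 𝒵)
    (hne : Nonempty (Points 𝒵)) (hsub : Subsingleton (Points 𝒵)) :
    SmoothLocally (fun T => ∀ t : T, IsRegularLocalRing (T.presheaf.stalk t)) 𝒵 := by
  obtain ⟨k, _, a, z, hzs, hzf⟩ := exists_flat_surj_field_of_reduced h𝒵 hred hne hsub
  exact smoothLocally_regular_of_flat_surj_field a z hzs hzf hnoeth

end Groth.Agent.H64.FldPt
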